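import Cfsg.Agent.H450.GenU.Semi

/-!
# Frames of the 3-dimensional Hermitian space and monomial semi-isometries (helper450, TEAM GEN H)
-/

set_option autoImplicit false

namespace Cfsg.Agent.H450.GenU

open Cfsg Cfsg.Agent.LieClassical.HermBasic Cfsg.Agent.LieClassical.HermSiegel
  Cfsg.Agent.LieClassical.HermGen Cfsg.Agent.LieClassical.SUBasic
  Cfsg.Agent.ClassicalGeometry.PSUAutCount Cfsg.Agent.ClassicalGeometry.UnitAutBasic Matrix
open Cfsg.Agent.H903.SylSemi Cfsg.Agent.H177.MeetPSU Cfsg.Agent.H137.Herm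

variable {F : Type} [Field F] {q : ℕ}

/-- A frame: `e, f` a hyperbolic pair, `d` of norm one. -/
structure Fr (q : ℕ) (e f d : Fin 3 → F) : Prop where
  ee : hermForm 3 F q e e = 0
  ef : hermForm 3 F q e f = 1
  ed : hermForm 3 F q e d = 0
  fe : hermForm 3 F q f e = 1
  ff : hermForm 3 F q f f = 0
  fd : hermForm 3 F q f d = 0
  de : hermForm 3 F q d e = 0
  df : hermForm 3 F q d f = 0
  dd : hermForm 3 F q d d = 1

variable {e f d e' f' d' : Fin 3 → F}

theorem exists_fr [Fintype F] (hF : Fintype.card F = q ^ 2) : ∃ e f d : Fin 3 → F, Fr q e f d := by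
  obtain ⟨D⟩ := exists_odd (q := q) hF 1
  have h1 : ((1 : ℕ) : ZMod (2 * 1)) = 1 := by norm_num
  have h2 : (1 : ZMod (2 * 1)) ≠ 0 := by decide
  have h3 : (1 : ZMod (2 * 1)) + 1 = 0 := by decide
  have hstd : ∀ i j : ZMod (2 * 1), hermForm (2 * 1 + 1) F q (D.v i) (D.v j) = if j = i + 1 then 1 else 0 := by
    intro i j
    have := D.std i j
    rwa [h1] at this
  refine ⟨D.v 0, D.v 1, D.d, ?_, ?_, D.hvd 0, ?_, ?_, D.hvd 1, D.hdv 0, D.hdv 1, D.hdd⟩
  · rw [hstd, zero_add, if_neg h2.symm]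
  · rw [hstd, zero_add, if_pos rfl]
  · rw [hstd, h3, if_pos rfl]
  · rw [hstd, h3, if_neg h2]

/-- the underlying Witt basis -/
theorem Fr.witt (B : Fr q e f d) : Witt q (Equiv.swap (0 : Fin 3) 1) ![e, f, d] := by
  refine ⟨fun i => Equiv.swap_apply_self _ _ _, ?_⟩
  intro i j
  fin_cases i <;> fin_cases j
  · exact B.ee
  · exact B.ef
  · exact B.ed
  · exact B.fe
  · exact B.ff
  · exact B.fd
  · exact B.de
  · exact B.df
  · exact B.dd

theorem Fr.expand (B : Fr q e f d) (x : Fin 3 → F) :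
    x = hermForm 3 F q x f • e + hermForm 3 F q x e • f + hermForm 3 F q x d • d := by
  have h := B.witt.expand rfl x
  rw [Fin.sum_univ_three] at h
  exact h

theorem Fr.herm [Fintype F] (hF : Fintype.card F = q ^ 2) (B : Fr q e f d) (a b c a' b' c' : F) :
    hermForm 3 F q (a • e + b • f + c • d) (a' • e + b' • f + c' • d) = a * b' ^ q + b * a' ^ q + c * c' ^ q := by
  simp only [herm_add_left, herm_add_right hF, herm_smul_left, herm_smul_right, B.ee, B.ef, B.ed, B.fe, B.ff, B.fd,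
    B.de, B.df, B.dd]
  ring

/-- Two `ρ`-semilinear isometries which agree on a frame are equal. -/
theorem Fr.ext (B : Fr q e f d) {ρ : F ≃+* F} {y y' : Equiv.Perm (Fin 3 → F)} (h : SI 3 q ρ y) (h' : SI 3 q ρ y')
    (he : y e = y' e) (hf : y f = y' f) (hd : y d = y' d) : y = y' := by
  ext1 x
  rw [B.expand x, h.add, h.add, h.smul, h.smul, h.smul, h'.add, h'.add, h'.smul, h'.smul, h'.smul, he, hf, hd]

/-- The semilinear isometry moving a frame to a frame. -/
theorem exists_mono [Fintype F] (hF : Fintype.card F = q ^ 2) (ρ : F ≃+* F) (B : Fr q e f d) (B' : Fr q e' f' d') :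
    ∃ y : Equiv.Perm (Fin 3 → F), SI 3 q ρ y ∧ y e = e' ∧ y f = f' ∧ y d = d' := by
  let Y : (Fin 3 → F) → (Fin 3 → F) := fun x =>
    ρ (hermForm 3 F q x f) • e' + ρ (hermForm 3 F q x e) • f' + ρ (hermForm 3 F q x d) • d'
  have hY : ∀ x, Y x = ρ (hermForm 3 F q x f) • e' + ρ (hermForm 3 F q x e) • f' + ρ (hermForm 3 F q x d) • d' :=
    fun _ => rfl
  have hadd : ∀ u v, Y (u + v) = Y u + Y v := by
    intro u v
    simp only [hY, herm_add_left, map_add, add_smul]
    abel
  have hsmul : ∀ (a : F) v, Y (a • v) = ρ a • Y v := by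
    intro a v
    simp only [hY, herm_smul_left, map_mul, smul_add, smul_smul]
  have hherm : ∀ u v, hermForm 3 F q (Y u) (Y v) = ρ (hermForm 3 F q u v) := by
    intro u v
    rw [hY, hY, B'.herm hF]
    conv_rhs => rw [B.expand u, B.expand v, B.herm hF]
    simp only [map_add, map_mul, map_pow]
  have hYe : Y e = e' := by
    rw [hY, B.ee, B.ef, B.ed]; simp
  have hYf : Y f = f' := by
    rw [hY, B.fe, B.ff, B.fd]; simp
  have hYd : Y d = d' := by
    rw [hY, B.de, B.df, B.dd]; simp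
  have hinj : Function.Injective Y := by
    intro u v huv
    have h1 : ∀ w, hermForm 3 F q u w = hermForm 3 F q v w := by
      intro w
      apply ρ.injective
      rw [← hherm, ← hherm, huv]
    rw [B.expand u, B.expand v, h1, h1, h1]
  exact ⟨Equiv.ofBijective Y (Finite.injective_iff_bijective.1 hinj), ⟨⟨hadd, hsmul⟩, hherm⟩, hYe, hYf, hYd⟩

/-- The determinant of a monomial map. -/
theorem Fr.dt (B : Fr q e f d) {y : Equiv.Perm (Fin 3 → F)} (hy : SI 3 q (1 : F ≃+* F) y) (π : Equiv.Perm (Fin 3))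
    (γ : Fin 3 → F) (h : ∀ i, y (![e, f, d] i) = γ i • ![e, f, d] (π i)) :
    Dt y (((Equiv.Perm.sign π : ℤ) : F) * ∏ i, γ i) := by
  obtain ⟨b, hb⟩ := B.witt.exists_basis rfl
  obtain ⟨L, hL⟩ : ∃ L : (Fin 3 → F) →ₗ[F] (Fin 3 → F), ∀ v, L v = y v :=
    ⟨{ toFun := y, map_add' := hy.add, map_smul' := hy.smul }, fun _ => rfl⟩
  refine ⟨L, hL, ?_⟩
  rw [← LinearMap.det_toMatrix b]
  have hM : LinearMap.toMatrix b b L =
      (Matrix.diagonal γ).submatrix (π⁻¹ : Equiv.Perm (Fin 3)) id := by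
    ext i j
    rw [LinearMap.toMatrix_apply, hL, hb, h, map_smul, ← hb, b.repr_self,
      Matrix.submatrix_apply, Matrix.diagonal_apply, Finsupp.smul_apply, Finsupp.single_apply, id]
    by_cases h : π j = i
    · have h1 : (π⁻¹ : Equiv.Perm (Fin 3)) i = j := by rw [← h]; simp
      rw [if_pos h, if_pos h1, h1, smul_eq_mul, mul_one]
    · have h1 : (π⁻¹ : Equiv.Perm (Fin 3)) i ≠ j := by
        intro h2
        apply h
        rw [← h2]; simp
      rw [if_neg h, if_neg h1, smul_zero]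
  rw [hM, Matrix.det_permute, Matrix.det_diagonal, Equiv.Perm.sign_inv]

/-- The determinant of a diagonal map. -/
theorem Fr.dt_diag (B : Fr q e f d) {y : Equiv.Perm (Fin 3 → F)} (hy : SI 3 q (1 : F ≃+* F) y) {a b c : F}
    (he : y e = a • e) (hf : y f = b • f) (hd : y d = c • d) : Dt y (a * b * c) := by
  have h := B.dt hy 1 ![a, b, c] (by
    intro i
    fin_cases i
    · exact he
    · exact hf
    · exact hd)
  rwa [Equiv.Perm.sign_one, Fin.prod_univ_three, Units.val_one, Int.cast_one, one_mul] at h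

/-- The determinant of the monomial map exchanging `e` and `f`. -/
theorem Fr.dt_swap (B : Fr q e f d) {y : Equiv.Perm (Fin 3 → F)} (hy : SI 3 q (1 : F ≃+* F) y) {c : F}
    (he : y e = f) (hf : y f = e) (hd : y d = c • d) : Dt y (-c) := by
  have h := B.dt hy (Equiv.swap 0 1) ![1, 1, c] (by
    intro i
    fin_cases i
    · show y e = (1 : F) • f
      rw [he, one_smul]
    · show y f = (1 : F) • e
      rw [hf, one_smul]
    · show y d = c • d
      exact hd)
  rw [Equiv.Perm.sign_swap (by decide), Fin.prod_univ_three] at h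
  have e1 : ((((-1 : ℤˣ) : ℤ)) : F) * (![(1 : F), 1, c] 0 * ![(1 : F), 1, c] 1 * ![(1 : F), 1, c] 2) = -c := by
    show ((((-1 : ℤˣ) : ℤ)) : F) * (1 * 1 * c) = -c
    simp
  rwa [e1] at h

/-- Scaling a frame. -/
theorem Fr.scale [Fintype F] (hF : Fintype.card F = q ^ 2) (B : Fr q e f d) {z c : F} (hz : z ≠ 0)
    (hc : c * c ^ q = 1) : Fr q (z • e) ((z ^ q)⁻¹ • f) (c • d) := by
  have hzq : z ^ q ≠ 0 := pow_ne_zero _ hz
  constructor <;> simp only [herm_smul_left, herm_smul_right, B.ee, B.ef, B.ed, B.fe, B.ff, B.fd, B.de, B.df, B.dd,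
    mul_zero, mul_one, inv_pow, pow_q_pow_q hF]
  · exact inv_mul_cancel₀ hz
  · exact mul_inv_cancel₀ hzq
  · rw [mul_comm]; exact hc

/-- Exchanging `e` and `f`. -/
theorem Fr.swap (B : Fr q e f d) {c : F} (hc : c * c ^ q = 1) : Fr q f e (c • d) := by
  constructor <;> simp only [herm_smul_left, herm_smul_right, B.ee, B.ef, B.ed, B.fe, B.ff, B.fd, B.de, B.df, B.dd,
    mul_zero, mul_one]
  rw [mul_comm]; exact hc

end Cfsg.Agent.H450.GenU
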